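import Mathlib

/-!
# Involutory automorphisms fixing two commuting involutions: general tools (UGT, node [BE])
-/

set_option autoImplicit false

namespace Cfsg.Agent.UGT.KF811

universe u v

/-- every involutory automorphism of `X` centralises two commuting involutions (`helper35`, #9415) -/
def TwoFix (X : Type u) [Group X] : Prop :=
  ∀ t : MulAut X, t * t = 1 →
    ∃ a b : X, a ≠ b ∧ orderOf a = 2 ∧ orderOf b = 2 ∧ a * b = b * a ∧ t a = a ∧ t b = b

theorem orderOf_two {X : Type u} [Group X] {a : X} (h : a * a = 1) (h1 : a ≠ 1) : orderOf a = 2 :=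
  orderOf_eq_prime (by rw [pow_two]; exact h) h1

theorem apply_apply {X : Type u} [Group X] {t : MulAut X} (ht : t * t = 1) (x : X) : t (t x) = x := by
  have h := congrArg (fun f : MulAut X => f x) ht
  exact h

/-- transport along an isomorphism -/
theorem TwoFix.of_equiv {X : Type u} {Y : Type v} [Group X] [Group Y] (e : X ≃* Y) (h : TwoFix X) :
    TwoFix Y := by
  intro t ht
  let s : MulAut X := (e.trans t).trans e.symm
  have hs : ∀ x, s x = e.symm (t (e x)) := fun _ => rfl
  have hss : s * s = 1 := by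
    ext x
    show s (s x) = x
    rw [hs, hs, e.apply_symm_apply, apply_apply ht, e.symm_apply_apply]
  obtain ⟨a, b, hab, ha, hb, hc, hta, htb⟩ := h s hss
  refine ⟨e a, e b, fun h => hab (e.injective h), ?_, ?_, ?_, ?_, ?_⟩
  · rw [MulEquiv.orderOf_eq]; exact ha
  · rw [MulEquiv.orderOf_eq]; exact hb
  · rw [← map_mul, ← map_mul, hc]
  · rw [hs] at hta
    rw [← e.symm_apply_eq]; exact hta
  · rw [hs] at htb
    rw [← e.symm_apply_eq]; exact htb

/-- an involutory automorphism normalising an elementary abelian 2-group of order at least 8 fixes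
two commuting involutions of it -/
theorem of_elem {X : Type u} [Group X] {t : MulAut X} (ht : t * t = 1) (E : Subgroup X) [Finite E]
    (hE : ∀ e ∈ E, e * e = 1) (h8 : 8 ≤ Nat.card E) (hm : ∀ e ∈ E, t e ∈ E) :
    ∃ a b : X, a ∈ E ∧ b ∈ E ∧ a ≠ b ∧ orderOf a = 2 ∧ orderOf b = 2 ∧ a * b = b * a ∧
      t a = a ∧ t b = b := by
  classical
  have hcomm : ∀ a ∈ E, ∀ b ∈ E, a * b = b * a := by
    intro a ha b hb
    have h1 := hE _ (mul_mem ha hb)
    have h2 : a * b = (a * b)⁻¹ := eq_inv_of_mul_eq_one_left h1
    rw [h2, mul_inv_rev, inv_eq_of_mul_eq_one_left (hE a ha), inv_eq_of_mul_eq_one_left (hE b hb)]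
  -- the fixed points
  let C : Subgroup E :=
    { carrier := {e | t e = e}
      mul_mem' := by
        intro a b ha hb
        show t ((a : X) * b) = a * b
        rw [map_mul, show t (a : X) = a from ha, show t (b : X) = b from hb]
      one_mem' := map_one t
      inv_mem' := by
        intro a ha
        show t ((a : X)⁻¹) = (a : X)⁻¹
        rw [map_inv, show t (a : X) = a from ha] }
  let f : E →* E :=
    { toFun := fun e => ⟨(e : X) * t e, mul_mem e.2 (hm _ e.2)⟩
      map_one' := by
        apply Subtype.ext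
        show (1 : X) * t 1 = 1
        rw [map_one, one_mul]
      map_mul' := by
        intro a b
        apply Subtype.ext
        show (a : X) * b * t ((a : X) * b) = (a : X) * t a * (b * t b)
        rw [map_mul, mul_assoc, mul_assoc, ← mul_assoc (b : X) (t a), ← mul_assoc (t (a : X)) b,
          hcomm b b.2 (t a) (hm _ a.2)] }
  have hk : f.ker = C := by
    ext e
    rw [MonoidHom.mem_ker]
    constructor
    · intro h
      have h1 : (e : X) * t e = 1 := congrArg Subtype.val h
      show t (e : X) = e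
      rw [← mul_left_cancel_iff (a := (e : X)), h1, hE _ e.2]
    · intro h
      apply Subtype.ext
      show (e : X) * t e = 1
      rw [show t (e : X) = e from h, hE _ e.2]
  have hr : f.range ≤ C := by
    rintro _ ⟨e, rfl⟩
    show t ((e : X) * t e) = (e : X) * t e
    rw [map_mul, apply_apply ht, hcomm _ (hm _ e.2) _ e.2]
  have hcard : Nat.card E ≤ Nat.card C * Nat.card C := by
    have h1 := f.ker.card_mul_index
    rw [Subgroup.index_ker, hk] at h1
    rw [← h1]
    exact Nat.mul_le_mul_left _ (Nat.card_le_card_of_injective _ (Subgroup.inclusion_injective hr))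
  have h3 : 3 ≤ Nat.card C := by
    by_contra h
    have h4 : Nat.card C ≤ 2 := by omega
    have := Nat.mul_le_mul h4 h4
    omega
  have hfin : Finite C := inferInstance
  have : Fintype C := Fintype.ofFinite C
  rw [Nat.card_eq_fintype_card] at h3
  obtain ⟨a, b, c, hab, hac, hbc⟩ := Fintype.two_lt_card_iff.1 (show 2 < Fintype.card C by omega)
  have key : ∀ a b : C, a ≠ 1 → b ≠ 1 → a ≠ b → ∃ a b : X, a ∈ E ∧ b ∈ E ∧ a ≠ b ∧
      orderOf a = 2 ∧ orderOf b = 2 ∧ a * b = b * a ∧ t a = a ∧ t b = b := by
    intro a b ha hb hab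
    refine ⟨a, b, (a : E).2, (b : E).2, fun h => hab (Subtype.ext (Subtype.ext h)),
      orderOf_two (hE _ (a : E).2) ?_, orderOf_two (hE _ (b : E).2) ?_,
      hcomm _ (a : E).2 _ (b : E).2, a.2, b.2⟩
    · exact fun h => ha (Subtype.ext (Subtype.ext h))
    · exact fun h => hb (Subtype.ext (Subtype.ext h))
  by_cases ha : a = 1
  · exact key b c (fun h => hab (ha.trans h.symm)) (fun h => hac (ha.trans h.symm)) hbc
  · by_cases hb : b = 1
    · exact key a c ha (fun h => hbc (hb.trans h.symm)) hac
    · exact key a b ha hb hab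

/-- an involution of a finite set of odd size has a fixed point -/
theorem exists_fix {α : Type*} (s : Set α) (hodd : Odd s.ncard) (f : α → α) (hf : ∀ a ∈ s, f a ∈ s)
    (hff : ∀ a ∈ s, f (f a) = a) : ∃ a ∈ s, f a = a := by
  classical
  have hfin : s.Finite := by
    by_contra h
    rw [Set.Infinite.ncard h] at hodd
    exact absurd hodd (by decide)
  have : Fintype s := hfin.fintype
  let σ : Equiv.Perm s := ⟨fun a => ⟨f a, hf a a.2⟩, fun a => ⟨f a, hf a a.2⟩,
    fun a => Subtype.ext (hff a a.2), fun a => Subtype.ext (hff a a.2)⟩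
  have h2 : Fact (Nat.Prime 2) := ⟨Nat.prime_two⟩
  have hc : ¬ 2 ∣ Fintype.card s := by
    rw [← Nat.card_eq_fintype_card, Nat.card_coe_set_eq]
    rw [← even_iff_two_dvd, Nat.not_even_iff_odd]
    exact hodd
  obtain ⟨a, ha⟩ := Equiv.Perm.exists_fixed_point_of_prime (p := 2) (n := 1) hc (σ := σ) (by
    rw [pow_one, pow_two]
    ext a
    exact hff a a.2)
  exact ⟨a, a.2, congrArg Subtype.val ha⟩

/-- the restriction of an automorphism to an invariant subgroup -/
def restr {X : Type*} [Group X] (t : MulAut X) (H : Subgroup X) (h : H.map t.toMonoidHom = H) : MulAut H :=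
  (t.subgroupMap H).trans (MulEquiv.subgroupCongr h)

theorem restr_apply {X : Type*} [Group X] (t : MulAut X) (H : Subgroup X) (h : H.map t.toMonoidHom = H)
    (x : H) : ((restr t H h x : H) : X) = t x := rfl

/-- `TwoFix` from an invariant subgroup -/
theorem of_restr {X : Type*} [Group X] {t : MulAut X} (ht : t * t = 1) (H : Subgroup X)
    (h : H.map t.toMonoidHom = H) (hH : TwoFix H) :
    ∃ a b : X, a ≠ b ∧ orderOf a = 2 ∧ orderOf b = 2 ∧ a * b = b * a ∧ t a = a ∧ t b = b := by
  obtain ⟨a, b, hab, ha, hb, hc, hta, htb⟩ := hH (restr t H h) (by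
    ext x
    show t (t x) = x
    exact apply_apply ht _)
  refine ⟨a, b, fun h => hab (Subtype.ext h), ?_, ?_, ?_, ?_, ?_⟩
  · rw [Subgroup.orderOf_coe]; exact ha
  · rw [Subgroup.orderOf_coe]; exact hb
  · rw [← Subgroup.coe_mul, hc, Subgroup.coe_mul]
  · rw [← restr_apply t H h, hta]
  · rw [← restr_apply t H h, htb]

end Cfsg.Agent.UGT.KF811
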