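import Mathlib
import Cfsg.Agent.UGT.KF811.Tools
import Cfsg.Agent.MTwelveType.SylowModel

/-!
# `TwoFix` for `M12`

A Sylow 2-subgroup `S` of `M12` has exactly one subgroup `A ≃ Z4 × Z4`, and the elements of `S` inverting `A` form a coset
of `A`. An involutory automorphism of `S` either centralises `Ω₁(A)`, or `A` is a free module and it fixes an involution
inverting `A`.
-/

set_option autoImplicit false

namespace Cfsg.Agent.UGT.KF811

open Cfsg
open Cfsg.Agent.ClassificationK.GTwoModel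

namespace MT

/-- the Sylow 2-subgroup of `M12` -/
abbrev T4 := T (2 * 2)

instance : Fintype T4 := Fintype.ofEquiv _ (T.equivProd (2 * 2)).symm

instance : DecidableEq T4 := fun a b =>
  decidable_of_iff (T.equivProd (2 * 2) a = T.equivProd (2 * 2) b) (T.equivProd (2 * 2)).injective.eq_iff

def mk (i j : ZMod (2 * 2)) (e : Bool) : T4 := ⟨i, j, e, false⟩

def a1 : T4 := mk 1 0 false
def a2 : T4 := mk 0 1 false
def i0 : T4 := mk 0 0 true

theorem chk1 : ∀ x y : T4, x * y = y * x → x * x ≠ 1 → x * x * (x * x) = 1 → y * y ≠ 1 →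
    y * y * (y * y) = 1 → x * x ≠ y * y → x = mk x.i x.j false := by
  decide +kernel

set_option synthInstance.maxHeartbeats 400000 in
set_option synthInstance.maxSize 1000 in
theorem chk2 : ∀ w : T4, w * w = 1 → ∀ i j i' j' : ZMod (2 * 2), mk i j false * mk i j false ≠ 1 →
    mk i' j' false * mk i' j' false ≠ 1 → mk i j false * mk i j false ≠ mk i' j' false * mk i' j' false →
    w * mk i j false * w = mk (-i) (-j) false → w * mk i' j' false * w = mk (-i') (-j') false →
    w = mk w.i w.j true := by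
  decide +kernel

set_option synthInstance.maxHeartbeats 400000 in
set_option synthInstance.maxSize 1000 in
theorem chk3 : ∀ u1 u2 v1 v2 w1 w2 : ZMod (2 * 2),
    mk u1 u2 false ^ u1.val * mk v1 v2 false ^ u2.val = a1 →
    mk u1 u2 false ^ v1.val * mk v1 v2 false ^ v2.val = a2 →
    mk u1 u2 false ^ w1.val * mk v1 v2 false ^ w2.val * mk w1 w2 true = i0 →
    (mk u1 u2 false * mk u1 u2 false = a1 * a1 ∧ mk v1 v2 false * mk v1 v2 false = a2 * a2) ∨
    ∃ i j : ZMod (2 * 2), mk u1 u2 false ^ i.val * mk v1 v2 false ^ j.val * mk w1 w2 true = mk i j true ∧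
      (mk u1 u2 false * mk u1 u2 false = a1 * a1 ∨ mk v1 v2 false * mk v1 v2 false = a2 * a2 ∨
        mk u1 u2 false * mk u1 u2 false * (mk v1 v2 false * mk v1 v2 false) = a1 * a1 * (a2 * a2)) := by
  decide +kernel

theorem mk_false : ∀ i j : ZMod (2 * 2), mk i j false = a1 ^ i.val * a2 ^ j.val := by decide +kernel

theorem mk_true : ∀ i j : ZMod (2 * 2), mk i j true = a1 ^ i.val * a2 ^ j.val * i0 := by decide +kernel

theorem chk4 : ∀ i j : ZMod (2 * 2), mk i j true * mk i j true = 1 ∧ mk i j true ≠ 1 ∧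
    mk i j true * (a1 * a1) = a1 * a1 * mk i j true ∧ mk i j true * (a2 * a2) = a2 * a2 * mk i j true ∧
    mk i j true * (a1 * a1 * (a2 * a2)) = a1 * a1 * (a2 * a2) * mk i j true ∧
    mk i j true ≠ a1 * a1 ∧ mk i j true ≠ a2 * a2 ∧ mk i j true ≠ a1 * a1 * (a2 * a2) := by
  decide +kernel

theorem inv_a1 : i0 * a1 * i0 = a1⁻¹ ∧ i0 * a2 * i0 = a2⁻¹ ∧ i0 * i0 = 1 := by decide +kernel

theorem mk_inv : ∀ i j : ZMod (2 * 2), (mk i j false)⁻¹ = mk (-i) (-j) false := by decide +kernel

theorem twoFix_T4 : TwoFix T4 := by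
  intro t ht
  have h12 : a1 * a2 = a2 * a1 := by decide +kernel
  have h1 : a1 * a1 ≠ 1 := by decide +kernel
  have h1' : a1 * a1 * (a1 * a1) = 1 := by decide +kernel
  have h2 : a2 * a2 ≠ 1 := by decide +kernel
  have h2' : a2 * a2 * (a2 * a2) = 1 := by decide +kernel
  have h3 : a1 * a1 ≠ a2 * a2 := by decide +kernel
  have ne1 : ∀ x : T4, x ≠ 1 → t x ≠ 1 := fun x hx h => hx ((map_eq_one_iff t t.injective).1 h)
  have hu : t a1 = mk (t a1).i (t a1).j false := by
    refine chk1 (t a1) (t a2) ?_ ?_ ?_ ?_ ?_ ?_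
    · rw [← map_mul, ← map_mul, h12]
    · rw [← map_mul]; exact ne1 _ h1
    · rw [← map_mul, ← map_mul, h1', map_one]
    · rw [← map_mul]; exact ne1 _ h2
    · rw [← map_mul, ← map_mul, h2', map_one]
    · rw [← map_mul, ← map_mul]; exact fun h => h3 (t.injective h)
  have hv : t a2 = mk (t a2).i (t a2).j false := by
    refine chk1 (t a2) (t a1) ?_ ?_ ?_ ?_ ?_ ?_
    · rw [← map_mul, ← map_mul, h12]
    · rw [← map_mul]; exact ne1 _ h2
    · rw [← map_mul, ← map_mul, h2', map_one]
    · rw [← map_mul]; exact ne1 _ h1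
    · rw [← map_mul, ← map_mul, h1', map_one]
    · rw [← map_mul, ← map_mul]; exact fun h => h3 (t.injective h).symm
  generalize hue : (t a1).i = u1 at hu
  generalize hue' : (t a1).j = u2 at hu
  generalize hve : (t a2).i = v1 at hv
  generalize hve' : (t a2).j = v2 at hv
  have hw : t i0 = mk (t i0).i (t i0).j true := by
    refine chk2 (t i0) (by rw [← map_mul, inv_a1.2.2, map_one]) u1 u2 v1 v2 ?_ ?_ ?_ ?_ ?_
    · rw [← hu, ← map_mul]; exact ne1 _ h1
    · rw [← hv, ← map_mul]; exact ne1 _ h2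
    · rw [← hu, ← hv, ← map_mul, ← map_mul]; exact fun h => h3 (t.injective h)
    · rw [← hu, ← map_mul, ← map_mul, inv_a1.1, map_inv, hu, mk_inv]
    · rw [← hv, ← map_mul, ← map_mul, inv_a1.2.1, map_inv, hv, mk_inv]
  generalize hwe : (t i0).i = w1 at hw
  generalize hwe' : (t i0).j = w2 at hw
  have k1 : mk u1 u2 false ^ u1.val * mk v1 v2 false ^ u2.val = a1 := by
    have h : t (t a1) = a1 := apply_apply ht _
    rw [hu, mk_false, map_mul, map_pow, map_pow, hu, hv] at h
    exact h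
  have k2 : mk u1 u2 false ^ v1.val * mk v1 v2 false ^ v2.val = a2 := by
    have h : t (t a2) = a2 := apply_apply ht _
    rw [hv, mk_false, map_mul, map_pow, map_pow, hu, hv] at h
    exact h
  have k3 : mk u1 u2 false ^ w1.val * mk v1 v2 false ^ w2.val * mk w1 w2 true = i0 := by
    have h : t (t i0) = i0 := apply_apply ht _
    rw [hw, mk_true, map_mul, map_mul, map_pow, map_pow, hu, hv, hw] at h
    exact h
  rcases chk3 u1 u2 v1 v2 w1 w2 k1 k2 k3 with ⟨e1, e2⟩ | ⟨i, j, e, e'⟩
  · refine ⟨a1 * a1, a2 * a2, h3, orderOf_two h1' h1, orderOf_two h2' h2, by decide +kernel, ?_, ?_⟩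
    · rw [map_mul, hu, e1]
    · rw [map_mul, hv, e2]
  · have hf : t (mk i j true) = mk i j true := by
      rw [mk_true, map_mul, map_mul, map_pow, map_pow, hu, hv, hw, e, mk_true]
    obtain ⟨c1, c2, c3, c4, c5, c6, c7, c8⟩ := chk4 i j
    rcases e' with e' | e' | e'
    · refine ⟨mk i j true, a1 * a1, c6, orderOf_two c1 c2, orderOf_two h1' h1, c3, hf, ?_⟩
      rw [map_mul, hu, e']
    · refine ⟨mk i j true, a2 * a2, c7, orderOf_two c1 c2, orderOf_two h2' h2, c4, hf, ?_⟩
      rw [map_mul, hv, e']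
    · refine ⟨mk i j true, a1 * a1 * (a2 * a2), c8, orderOf_two c1 c2,
        orderOf_two (by decide +kernel) (by decide +kernel), c5, hf, ?_⟩
      rw [map_mul, map_mul, map_mul, hu, hv, e']

end MT

/-- an involutory automorphism normalises a Sylow 2-subgroup -/
theorem exists_sylow {X : Type*} [Group X] [Finite X] {t : MulAut X} (ht : t * t = 1) :
    ∃ S : Sylow 2 X, (S : Subgroup X).map t.toMonoidHom = S := by
  have h2 : Fact (Nat.Prime 2) := ⟨Nat.prime_two⟩
  obtain ⟨S, -, hS⟩ := exists_fix (Set.univ : Set (Sylow 2 X)) (by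
    rw [Set.ncard_univ]
    have h := card_sylow_modEq_one 2 X
    exact Nat.odd_iff.2 h) (fun S => t • S) (fun _ _ => Set.mem_univ _) (by
      intro S _
      show t • t • S = S
      rw [smul_smul, ht, one_smul])
  refine ⟨S, ?_⟩
  have h1 := congrArg (fun S : Sylow 2 X => (S : Subgroup X)) hS
  exact h1

/-- `TwoFix` from the Sylow 2-subgroups -/
theorem of_sylow {X : Type*} [Group X] [Finite X] (h : ∀ S : Sylow 2 X, TwoFix (S : Subgroup X)) :
    TwoFix X := by
  intro t ht
  obtain ⟨S, hS⟩ := exists_sylow ht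
  exact of_restr ht _ hS (h S)

theorem twoFix_M12' : TwoFix Spor.M12 := by
  have hfin : Finite Spor.M12 :=
    Nat.finite_of_card_ne_zero (by rw [Cfsg.Agent.MTwelveType.SylowModel.card_M12]; norm_num)
  apply of_sylow
  intro S
  obtain ⟨e⟩ := Cfsg.Agent.MTwelveType.SylowModel.exists_equiv S
  exact MT.twoFix_T4.of_equiv e

theorem twoFix_M12 {X : Type*} [Group X] (h : Spor.IsoM12 X) : TwoFix X := by
  obtain ⟨e⟩ := h
  exact twoFix_M12'.of_equiv e.symm

end Cfsg.Agent.UGT.KF811
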