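import Mathlib
import Cfsg.Agent.UGT.KF811.Tools
import Cfsg.Agent.J4Type.Aut22
import Cfsg.Agent.SporadicA.OctadFix
import Cfsg.Agent.SporadicStructure.M23Index253
import Cfsg.Agent.Schreier.MTwentyThree

/-!
# `TwoFix` for `M22` and `M23`

Every automorphism of `M22` is the conjugation by an element of `M24` fixing the duad. An involutory one fixes one of the
77 octads through the duad, so it normalises the pointwise stabiliser of this octad, elementary abelian of order 16.
An involutory automorphism of `M23` fixes one of the 23 point stabilisers.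
-/

set_option autoImplicit false
open scoped Pointwise

namespace Cfsg.Agent.UGT.KF811

open Cfsg MulAction
open Cfsg.Agent.J4Type.Aut22 (D22 mem_D22_iff exists_conj eq_one_of_centralizes)
open Cfsg.Agent.SporadicA.OctadFix (fixOct mem_fixOct conj_mem_fixOct card_fixOct fixOct_sq)
open Cfsg.Agent.SporadicStructure.M23Index253 (smul_mem_octads)
open Cfsg.Agent.SporadicA.MathieuRecog (mem_M22_iff mem_M23_iff M22_le)

/-- the octads through the duad -/
def Oct2 : Set (Finset GolayPt) := {o | o ∈ octads ∧ none ∈ o ∧ some 0 ∈ o}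

theorem ncard_Oct2 : Oct2.ncard = 77 := by
  classical
  have hS : IsSteinerSystem 5 8 octads := Cfsg.Agent.S0363.result
  have h := SporadicA.SteinerCount.card_blocks_containing hS
    (Finset.univ.filter fun o => o ∈ octads) (by simp) {none, some 0} (by simp)
  have h2 : Oct2 =
      ((((Finset.univ.filter fun o => o ∈ octads).filter fun b => {none, some 0} ⊆ b) :
        Finset (Finset GolayPt)) : Set (Finset GolayPt)) := by
    ext o; simp [Oct2, Finset.insert_subset_iff]
  rw [h2, Set.ncard_coe_finset]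
  have h3 : Fintype.card GolayPt = 24 := by simp
  rw [h3] at h
  have h6 : ({none, some 0} : Finset GolayPt).card = 2 := by
    rw [Finset.card_pair]; simp
  rw [h6] at h
  have h4 : (8 - 2).choose (5 - 2) = 20 := by decide
  have h5 : (24 - 2).choose (5 - 2) = 1540 := by decide +kernel
  rw [h4, h5] at h
  omega

theorem twoFix_M22' : TwoFix Spor.M22 := by
  intro t ht
  obtain ⟨g, hg, hgt⟩ := exists_conj t
  have hg24 : g ∈ M24 := ((mem_D22_iff g).1 hg).1
  -- `g` is an involution
  have hgg : g * g = 1 := by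
    apply eq_one_of_centralizes (mul_mem hg hg)
    intro m
    have h1 := hgt (t m)
    rw [apply_apply ht, hgt m] at h1
    calc g * g * (m : Equiv.Perm GolayPt) * (g * g)⁻¹ = g * (g * m * g⁻¹) * g⁻¹ := by group
      _ = m := h1.symm
  have hsm : ∀ o : Finset GolayPt, g • (g • o) = o := by
    intro o
    rw [smul_smul, hgg, one_smul]
  have hmem : ∀ o ∈ Oct2, g • o ∈ Oct2 := by
    rintro o ⟨h1, h2, h3⟩
    refine ⟨smul_mem_octads ⟨g, hg24⟩ h1, ?_, ?_⟩
    · rcases ((mem_D22_iff g).1 hg).2 with ⟨h4, h5⟩ | ⟨h4, h5⟩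
      · rw [← h4]; exact Finset.smul_mem_smul_finset h2
      · rw [← h5]; exact Finset.smul_mem_smul_finset h3
    · rcases ((mem_D22_iff g).1 hg).2 with ⟨h4, h5⟩ | ⟨h4, h5⟩
      · rw [← h5]; exact Finset.smul_mem_smul_finset h3
      · rw [← h4]; exact Finset.smul_mem_smul_finset h2
  obtain ⟨o, ⟨ho, h1, h2⟩, hfix⟩ := exists_fix Oct2 (by rw [ncard_Oct2]; decide) (fun o => g • o) hmem
    (fun o _ => hsm o)
  have hle : fixOct o ≤ Spor.M22 := by
    intro x hx
    rw [mem_fixOct] at hx
    rw [mem_M22_iff]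
    exact ⟨hx.1, hx.2 _ h1, hx.2 _ h2⟩
  have hcard : Nat.card ((fixOct o).subgroupOf Spor.M22) = 16 := by
    rw [← card_fixOct ho]
    exact Nat.card_congr (Subgroup.subgroupOfEquivOfLe hle).toEquiv
  have : Finite ((fixOct o).subgroupOf Spor.M22) := Nat.finite_of_card_ne_zero (by rw [hcard]; decide)
  obtain ⟨a, b, -, -, h⟩ := of_elem ht ((fixOct o).subgroupOf Spor.M22)
    (fun e he => Subtype.ext (fixOct_sq ho (Subgroup.mem_subgroupOf.1 he)))
    (by rw [hcard]; decide)
    (by
      intro e he
      rw [Subgroup.mem_subgroupOf] at he ⊢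
      rw [hgt e]
      have h3 := (conj_mem_fixOct (o := o) hg24).2 he
      rwa [show g • o = o from hfix] at h3)
  exact ⟨a, b, h⟩

theorem twoFix_M22 {X : Type*} [Group X] (h : Spor.IsoM22 X) : TwoFix X := by
  obtain ⟨e⟩ := h
  exact twoFix_M22'.of_equiv e.symm

open Cfsg.Agent.Schreier.MTwentyThree in
theorem twoFix_St {x : GolayPt} (hx : x ≠ none) : TwoFix (St x) := by
  have h0 : (some 0 : GolayPt) ≠ none := by simp
  obtain ⟨m, hm⟩ := exists_one h0 hx
  have h1 : TwoFix (St (some 0)) := by
    rw [← St_zero]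
    exact twoFix_M22'.of_equiv (Subgroup.subgroupOfEquivOfLe M22_le).symm
  have h2 := map_conj_St m (some 0)
  rw [hm] at h2
  rw [← h2]
  exact h1.of_equiv ((MulAut.conj m).subgroupMap (St (some 0)))

open Cfsg.Agent.Schreier.MTwentyThree in
theorem twoFix_M23' : TwoFix Spor.M23 := by
  classical
  intro t ht
  choose f hf0 hf using fun x : {x : GolayPt // x ≠ none} => exists_image t x.2
  let F : GolayPt → GolayPt := fun x => if h : x ≠ none then f ⟨x, h⟩ else x
  have hF : ∀ x : GolayPt, x ≠ none → F x ≠ none ∧ (St x).map t.toMonoidHom = St (F x) := by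
    intro x hx
    have h1 : F x = f ⟨x, hx⟩ := dif_pos hx
    rw [h1]
    exact ⟨hf0 _, hf ⟨x, hx⟩⟩
  have htt : t.toMonoidHom.comp t.toMonoidHom = MonoidHom.id _ := by
    ext1 x
    exact apply_apply ht x
  have hFF : ∀ x : GolayPt, x ≠ none → F (F x) = x := by
    intro x hx
    have h1 := hF x hx
    have h2 := hF (F x) h1.1
    rw [← h1.2, Subgroup.map_map, htt, Subgroup.map_id] at h2
    apply eq_of_fixed hx h2.1
    intro m hm
    rw [h2.2] at hm
    exact hm
  obtain ⟨x, hx, hfx⟩ := exists_fix ({none}ᶜ : Finset GolayPt) (by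
    rw [Set.ncard_coe_finset, card_pts]; decide) F (by
      intro a ha
      rw [Finset.mem_coe, Finset.mem_compl, Finset.mem_singleton] at ha ⊢
      exact (hF a ha).1) (by
      intro a ha
      rw [Finset.mem_coe, Finset.mem_compl, Finset.mem_singleton] at ha
      exact hFF a ha)
  rw [Finset.mem_coe, Finset.mem_compl, Finset.mem_singleton] at hx
  have h1 := (hF x hx).2
  rw [hfx] at h1
  exact of_restr ht (St x) h1 (twoFix_St hx)

theorem twoFix_M23 {X : Type*} [Group X] (h : Spor.IsoM23 X) : TwoFix X := by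
  obtain ⟨e⟩ := h
  exact twoFix_M23'.of_equiv e.symm

end Cfsg.Agent.UGT.KF811
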